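import Groth.Agent.TriH.TruncFactor

/-!
# Chains of maps inducing zero on cohomology in a range compose to zero
-/

set_option autoImplicit false

universe w v u

open CategoryTheory CategoryTheory.Limits CategoryTheory.Pretriangulated DerivedCategory

namespace Groth.Agent.Ghost

variable {A : Type u} [Category.{v} A] [Abelian A] [HasDerivedCategory.{w} A]

/-- If `L` lives in degrees `≤ a + n`, each map of the chain kills cohomology there and the
`(n+1)`-st object lives in degrees `≥ a`, then `L → K 0 → K (n+1)` is zero. -/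
theorem comp_eq_zero (K : ℕ → DerivedCategory A) (f : ∀ j, K j ⟶ K (j + 1))
    (c : ∀ j, K 0 ⟶ K j) (hc0 : c 0 = 𝟙 _) (hc : ∀ j, c (j + 1) = c j ≫ f j)
    {L : DerivedCategory A} (g : L ⟶ K 0) (a : ℤ) (n : ℕ) [L.IsLE (a + n)]
    (hf : ∀ j ≤ n, ∀ q : ℤ, q ≤ a + n → (homologyFunctor A q).map (f j) = 0)
    (hGE : (K (n + 1)).IsGE a) : g ≫ c (n + 1) = 0 := by
  let t := TStructure.t (C := A)
  have key : ∀ j ≤ n + 1, ∃ φ : L ⟶ (t.truncLE (a + n - j)).obj (K j),
      φ ≫ (t.truncLEι (a + n - j)).app (K j) = g ≫ c j := by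
    intro j
    induction j with
    | zero =>
      intro _
      set m : ℤ := a + n - ((0 : ℕ) : ℤ) with hm
      obtain ⟨φ, hφ⟩ := Triangle.coyoneda_exact₂ _
        (t.triangleLEGE_distinguished m (m + 1) rfl (K 0)) (g ≫ c 0)
        (by
          haveI : t.IsLE L (a + n) := inferInstanceAs (L.IsLE (a + n))
          haveI : t.IsGE ((t.triangleLEGE m (m + 1) rfl).obj (K 0)).obj₃ (m + 1) :=
            inferInstanceAs (t.IsGE ((t.truncGE (m + 1)).obj (K 0)) (m + 1))
          exact t.zero _ (a + n) (m + 1) (by omega))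
      exact ⟨φ, hφ.symm⟩
    | succ j ih =>
      intro hj
      have ih' := ih (by omega)
      set m : ℤ := a + n - j with hm
      obtain ⟨φ, hφ⟩ := ih'
      have hm' : (a + n - ((j + 1 : ℕ) : ℤ)) + 1 = m := by push_cast; omega
      let π := (t.truncGEπ m).app (K (j + 1))
      let h : (t.truncLE m).obj (K j) ⟶ K (j + 1) := (t.truncLEι m).app (K j) ≫ f j
      have h0 : h ≫ π = 0 := by
        haveI : ((t.truncLE m).obj (K j)).IsLE m :=
          inferInstanceAs (t.IsLE ((t.truncLE m).obj (K j)) m)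
        haveI : ((t.truncGE m).obj (K (j + 1))).IsGE m :=
          inferInstanceAs (t.IsGE ((t.truncGE m).obj (K (j + 1))) m)
        refine TriH.TruncFactor.eq_zero_of_homology m _ ?_
        rw [Functor.map_comp, Functor.map_comp, hf j (by omega) m (by omega)]
        simp
      obtain ⟨ψ, hψ⟩ := Triangle.coyoneda_exact₂ _
        (t.triangleLEGE_distinguished (a + n - ((j + 1 : ℕ) : ℤ)) m hm' (K (j + 1))) h h0
      refine ⟨φ ≫ ψ, ?_⟩
      rw [Category.assoc, hc, ← Category.assoc g, ← hφ, Category.assoc]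
      exact congrArg (φ ≫ ·) hψ.symm
  obtain ⟨φ, hφ⟩ := key (n + 1) le_rfl
  rw [← hφ]
  haveI : t.IsGE ((𝟭 (DerivedCategory A)).obj (K (n + 1))) a := hGE
  haveI : t.IsLE ((t.truncLE (a + n - ((n + 1 : ℕ) : ℤ))).obj (K (n + 1))) (a + n - ((n + 1 : ℕ) : ℤ)) :=
    inferInstance
  rw [t.zero ((t.truncLEι (a + n - ((n + 1 : ℕ) : ℤ))).app (K (n + 1))) (a + n - ((n + 1 : ℕ) : ℤ)) a
    (by push_cast; omega), comp_zero]

end Groth.Agent.Ghost
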